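import Groth.Agent.AdjSupp.Perfect

/-!
# If the right adjoint preserves sums, `Rf_*` preserves perfect objects
-/

set_option autoImplicit false
set_option linter.style.haveILetI false
set_option backward.isDefEq.respectTransparency false
set_option backward.isDefEq.respectTransparency.types false

universe u

open CategoryTheory CategoryTheory.Limits AlgebraicGeometry Pretriangulated

attribute [local instance] HasDerivedCategory.standard

noncomputable section

namespace Groth.Agent.AdjTwist

open Groth.Agent Groth.Agent.KFlatLib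

variable {X Y : Scheme.{u}}

theorem isPerfect_rpush_of_preservesSums [CompactSpace X] [QuasiSeparatedSpace X] [CompactSpace Y]
    [QuasiSeparatedSpace Y] (f : X ⟶ Y) [DCoh.HasRpush f]
    (h : DCoh.RpushPreservesQCoh f) (a : DCoh.DQCoh Y ⥤ DCoh.DQCoh X) (ad : DCoh.RpushQ f h ⊣ a)
    (hcop : ∀ J : Type u, PreservesColimitsOfShape (Discrete J) a)
    (P : DCoh.D X) (hP : DCoh.IsPerfect P) : DCoh.IsPerfect ((DCoh.Rpush f).obj P) := by
  classical
  have hPq : DCoh.IsQCohD P := DQGen.isQCohD_of_isPerfect hP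
  have hW : IsCompact ((⊥ : Y.Opens) : Set Y) := by simp
  refine (DQGen.isCompactObjRel_iff (X := Y) hW (P' := fun L => DCoh.IsQCohD L)
    (fun L => (DQGen.pq_bot_iff L).symm) ((DQGen.pq_bot_iff _).2 (h _ hPq))).1 ?_
  intro I N _ hN
  refine DQGen.bijective_homSum_of_fixAt _ fun φ => ?_
  let P₀ : DCoh.DQCoh X := ⟨P, hPq⟩
  let M : I → DCoh.DQCoh Y := fun j => ⟨N j, hN j⟩
  haveI := DQGen.hasSums_DQCoh (X := Y) I
  haveI := DQGen.hasSums_DQCoh (X := X) I
  haveI := hcop I
  haveI : a.Additive := by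
    haveI := ad.rightAdjoint_preservesLimits
    haveI := preservesBinaryBiproducts_of_preservesBinaryProducts a
    exact Functor.additive_of_preservesBinaryBiproducts a
  let ι' := (DCoh.IsQCohD (X := Y)).ι
  haveI : PreservesColimitsOfShape (Discrete I) ι' := DQGen.preservesSums_ι I
  haveI : HasCoproduct fun j => ι'.obj (M j) := ‹HasCoproduct N›
  let e : (∐ fun j => ι'.obj (M j)) ≅ ι'.obj (∐ M) := (PreservesCoproduct.iso ι' M).symm
  have he : ∀ s : Finset I, e.hom ≫ ι'.map (partProj M s) = partProj (fun j => ι'.obj (M j)) s ≫ e.hom :=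
    fun s => by
      simpa only [e, Iso.symm_hom, PreservesCoproduct.inv_hom] using
        KFlatLib.sigmaComparison_partProj M ι' s
  let φ' : (DCoh.RpushQ f h).obj P₀ ⟶ ∐ M := ObjectProperty.homMk (φ ≫ e.hom)
  let ψ : P₀ ⟶ a.obj (∐ M) := ad.homEquiv _ _ φ'
  obtain ⟨s, hs⟩ := PushAmp.fix_DQCoh (P := P₀) hP (fun j => a.obj (M j))
    (ψ ≫ inv (sigmaComparison a M))
  refine ⟨s, ?_⟩
  have h1 : ψ ≫ a.map (partProj M s) = ψ := by
    have h2 := congrArg (· ≫ sigmaComparison a M) hs
    simp only [Category.assoc, IsIso.inv_hom_id, Category.comp_id] at h2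
    rw [← KFlatLib.sigmaComparison_partProj M a s, IsIso.inv_hom_id_assoc] at h2
    exact h2
  have h3 : φ' ≫ partProj M s = φ' :=
    (ad.homEquiv _ _).injective ((ad.homEquiv_naturality_right φ' _).trans h1)
  have h4 := congrArg (fun t => t.hom) h3
  refine (cancel_mono e.hom).1 ?_
  exact (Category.assoc _ _ _).trans ((congrArg (φ ≫ ·) (he s).symm).trans
    ((Category.assoc _ _ _).symm.trans h4))

end Groth.Agent.AdjTwist
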