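import Groth.Agent.AdjSupp.Main

/-!
# The comparison map `Lf^*(-) ⊗^L a(O) ⟶ a`
-/

set_option autoImplicit false
set_option linter.style.haveILetI false
set_option backward.isDefEq.respectTransparency false
set_option backward.isDefEq.respectTransparency.types false
set_option maxHeartbeats 800000
set_option synthInstance.maxHeartbeats 400000

universe u

open CategoryTheory CategoryTheory.Limits AlgebraicGeometry Pretriangulated

attribute [local instance] HasDerivedCategory.standard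

noncomputable section

namespace Groth.Agent.AdjTwist

open Groth.Agent Groth.Agent.KFlatLib

/-- The structure sheaf as a complex. -/
abbrev strO (Y : Scheme.{u}) : CochainComplex Y.Modules ℤ :=
  (HomologicalComplex.single Y.Modules (ComplexShape.up ℤ) 0).obj (Coh.structureModule Y)

/-- Rearrangement at a flat complex. -/
lemma inv_chain {D : Type*} [Category D] {A B C H O : D} {θ : A ⟶ H} [IsIso θ] {ε' : H ⟶ C} [IsIso ε']
    {ε : A ⟶ B} [IsIso ε] {Θ : B ⟶ C} (hθ : θ ≫ ε' = ε ≫ Θ) {τ : A ⟶ O} {χ : B ⟶ O} (hτ : τ = ε ≫ χ) :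
    Θ ≫ inv ε' ≫ inv θ ≫ τ = χ := by
  rw [← cancel_epi ε, ← reassoc_of% hθ, IsIso.hom_inv_id_assoc, IsIso.hom_inv_id_assoc, hτ]

/-- Trace maps from a bifunctor with a unit. -/
lemma exists_unit_trace {C D : Type*} [Category C] [Category D] (K : C ⥤ C) (ψ : K ⟶ 𝟭 C) (T : C ⥤ C ⥤ C)
    (Q : C ⥤ D) {S R J : C} (u : T.obj S ≅ 𝟭 C) (c₁ : R ⟶ J) (s : S ⟶ J)
    [∀ P, IsIso (Q.map ((T.map s).app (K.obj P)))] :
    ∃ t : K ⋙ T.obj R ⋙ Q ⟶ Q, ∀ (P : C) [IsIso (Q.map ((T.map s).app P))],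
      t.app P = Q.map ((T.obj R).map (ψ.app P)) ≫
        Q.map ((T.map c₁).app P) ≫ inv (Q.map ((T.map s).app P)) ≫ Q.map (u.hom.app P) := by
  let B := Functor.whiskerLeft K (Functor.whiskerRight (T.map s) Q)
  haveI : ∀ P, IsIso (B.app P) := fun P => inferInstanceAs (IsIso (Q.map ((T.map s).app (K.obj P))))
  haveI := NatIso.isIso_of_isIso_app B
  let U : K ⋙ T.obj S ⋙ Q ⟶ Q :=
    Functor.whiskerLeft K (Functor.whiskerRight u.hom Q) ≫ Functor.whiskerRight ψ Q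
  refine ⟨Functor.whiskerLeft K (Functor.whiskerRight (T.map c₁) Q) ≫ inv B ≫ U, fun P _ => ?_⟩
  have e₂ : (inv B).app P ≫ Q.map ((T.obj S).map (ψ.app P)) =
      Q.map ((T.obj J).map (ψ.app P)) ≫ inv (Q.map ((T.map s).app P)) := by
    rw [NatIso.isIso_inv_app, IsIso.inv_comp_eq, ← Category.assoc, IsIso.eq_comp_inv]
    simp [B, ← Functor.map_comp]
  have e₃ : U.app P = Q.map ((T.obj S).map (ψ.app P)) ≫ Q.map (u.hom.app P) := by
    simp [U, ← Functor.map_comp]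
  simp only [NatTrans.comp_app, Functor.whiskerLeft_app, Functor.whiskerRight_app]
  rw [e₃, reassoc_of% e₂, ← Q.map_comp_assoc, ← (T.map c₁).naturality, Q.map_comp_assoc]

/-- The mate of a comparison between endofunctors, natural in the object. -/
def mateNat {C D : Type*} [Category C] [Category D] {L : C ⥤ D} {G : D ⥤ C} (adj : L ⊣ G)
    {F₁ : C ⥤ C} {F₂ : D ⥤ D} (α : F₁ ⋙ L ≅ L ⋙ F₂) : G ⋙ F₁ ⟶ F₂ ⋙ G where
  app M := adj.homEquiv (F₁.obj (G.obj M)) (F₂.obj M) (α.hom.app (G.obj M) ≫ F₂.map (adj.counit.app M))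
  naturality M N g := by
    simp only [Functor.comp_map]
    refine (adj.homEquiv_naturality_left _ _).symm.trans
      ((congrArg _ ?_).trans (adj.homEquiv_naturality_right _ _))
    have h := α.hom.naturality (G.map g)
    simp only [Functor.comp_map] at h
    rw [reassoc_of% h, Category.assoc, ← F₂.map_comp, ← F₂.map_comp, adj.counit_naturality]

section Universal

variable {CX CY DX DY : Type*} [Category CX] [Category CY] [Category DX] [Category DY]
  {p : CX ⥤ CY} {QX : CX ⥤ DX} {QY : CY ⥤ DY} {H : DX ⥤ DY}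

/-- Universal maps are carried along autoequivalences commuting with `H`. -/
lemma bijective_universal (η : p ⋙ QY ⟶ QX ⋙ H) {F₁ : CY ⥤ CY} {F₂ : CX ⥤ CX} (μ : p ⋙ F₁ ⟶ F₂ ⋙ p)
    {A₁ : DY ⥤ DY} [A₁.Full] [A₁.Faithful] {A₂ : DX ⥤ DX} [A₂.Full] [A₂.Faithful]
    (ζ₁ : F₁ ⋙ QY ≅ QY ⋙ A₁) (ζ₂ : F₂ ⋙ QX ≅ QX ⋙ A₂)
    {I J : CX} (hlift : ∀ g : QX.obj I ⟶ QX.obj J, ∃ g₁, QX.map g₁ = g)
    [IsIso (η.app I)] [IsIso (η.app (F₂.obj I))]
    [IsIso (QY.map (μ.app I))]
    {R S JO : CY} (r : R ⟶ p.obj J) [IsIso (QY.map r)] (c₁ : R ⟶ JO) (s : S ⟶ JO) [IsIso (QY.map s)]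
    [IsIso (QY.map (F₁.map s))] {K : DY} (γ : QY.obj (F₁.obj S) ≅ K)
    (d : H.obj (QX.obj J) ⟶ QY.obj S) (hd : QY.map c₁ = QY.map r ≫ η.app J ≫ d ≫ QY.map s)
    (hu : Function.Bijective fun g : QX.obj I ⟶ QX.obj J => H.map g ≫ d)
    (φ : H.obj (QX.obj (F₂.obj J)) ⟶ K)
    (hφ : (QY.map (F₁.map r) ≫ QY.map (μ.app J) ≫ η.app (F₂.obj J)) ≫ φ =
      QY.map (F₁.map c₁) ≫ inv (QY.map (F₁.map s)) ≫ γ.hom) :
    Function.Bijective fun h : QX.obj (F₂.obj I) ⟶ QX.obj (F₂.obj J) => H.map h ≫ φ := by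
  have hζ₁ : ∀ {A B : CY} (x : A ⟶ B),
      QY.map (F₁.map x) = ζ₁.hom.app A ≫ A₁.map (QY.map x) ≫ ζ₁.inv.app B := fun x => by
    simpa using (congrArg (· ≫ ζ₁.inv.app _) (ζ₁.hom.naturality x))
  have hζ₂ : ∀ {A B : CX} (x : A ⟶ B),
      QX.map (F₂.map x) = ζ₂.hom.app A ≫ A₂.map (QX.map x) ≫ ζ₂.inv.app B := fun x => by
    simpa using (congrArg (· ≫ ζ₂.inv.app _) (ζ₂.hom.naturality x))
  haveI : IsIso (QY.map (F₁.map r)) := by rw [hζ₁]; infer_instance
  have hJ : QY.map (μ.app J) ≫ η.app (F₂.obj J) ≫ φ =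
      ζ₁.hom.app (p.obj J) ≫ A₁.map (η.app J ≫ d) ≫ ζ₁.inv.app S ≫ γ.hom := by
    rw [← cancel_epi (QY.map (F₁.map r))]
    simp only [Category.assoc] at hφ
    rw [hφ, ← Category.assoc (QY.map (F₁.map c₁)), hζ₁ r]
    simp only [Category.assoc, Iso.inv_hom_id_app_assoc]
    rw [← A₁.map_comp_assoc]
    have h1 : QY.map (F₁.map c₁) ≫ inv (QY.map (F₁.map s)) =
        ζ₁.hom.app R ≫ A₁.map (QY.map r ≫ η.app J ≫ d) ≫ ζ₁.inv.app S := by
      rw [IsIso.comp_inv_eq, hζ₁ c₁, hζ₁ s, hd]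
      simp
    rw [reassoc_of% h1]
  let b : (QX.obj I ⟶ QX.obj J) ≃ (QX.obj (F₂.obj I) ⟶ QX.obj (F₂.obj J)) :=
    ((Functor.FullyFaithful.ofFullyFaithful A₂).homEquiv).trans
      (Iso.homCongr (ζ₂.app I).symm (ζ₂.app J).symm)
  let N : H.obj (QX.obj (F₂.obj I)) ≅ A₁.obj (QY.obj (p.obj I)) :=
    (asIso (η.app (F₂.obj I))).symm ≪≫ (asIso (QY.map (μ.app I))).symm ≪≫ ζ₁.app (p.obj I)
  let k : (H.obj (QX.obj I) ⟶ QY.obj S) ≃ (H.obj (QX.obj (F₂.obj I)) ⟶ K) :=
    (Iso.homCongr (asIso (η.app I)).symm (Iso.refl _)).trans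
      (((Functor.FullyFaithful.ofFullyFaithful A₁).homEquiv).trans
        (Iso.homCongr N.symm ((ζ₁.app S).symm ≪≫ γ)))
  have key : ∀ g, H.map (b g) ≫ φ = k (H.map g ≫ d) := fun g => by
    obtain ⟨g₁, rfl⟩ := hlift g
    have hb : b (QX.map g₁) = QX.map (F₂.map g₁) := by simp [b, hζ₂, Iso.homCongr]
    have hk : k (H.map (QX.map g₁) ≫ d) = inv (η.app (F₂.obj I)) ≫ inv (QY.map (μ.app I)) ≫
        ζ₁.hom.app (p.obj I) ≫ A₁.map (η.app I ≫ H.map (QX.map g₁) ≫ d) ≫ ζ₁.inv.app S ≫ γ.hom := by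
      simp [k, N, Iso.homCongr]
    rw [hb, hk, IsIso.eq_inv_comp, IsIso.eq_inv_comp]
    have n₁ := η.naturality (F₂.map g₁)
    have n₂ := congrArg QY.map (μ.naturality g₁)
    have n₃ := η.naturality g₁
    simp only [Functor.comp_map, Functor.map_comp] at n₁ n₂ n₃
    rw [← reassoc_of% n₁, ← reassoc_of% n₂, hJ, hζ₁, ← reassoc_of% n₃]
    simp
  have : (fun h => H.map h ≫ φ) = (k ∘ fun g => H.map g ≫ d) ∘ b.symm := funext fun h => by
    simp only [Function.comp_apply, ← key, Equiv.apply_symm_apply]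
  exact this ▸ (k.bijective.comp hu).comp b.symm.bijective

end Universal

variable {X Y : Scheme.{u}}

lemma isKFlat_strO : DCoh.IsKFlat (strO Y) :=
  isKFlat_of_isStrictlyLE _ 0 (isFlat_single 0 isFlat_structureModule)

/-- The structure sheaf in any degree, as a complex. -/
abbrev strS (Y : Scheme.{u}) (m : ℤ) : CochainComplex Y.Modules ℤ :=
  (HomologicalComplex.single Y.Modules (ComplexShape.up ℤ) m).obj (Coh.structureModule Y)

lemma isKFlat_strS (m : ℤ) : DCoh.IsKFlat (strS Y m) :=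
  isKFlat_of_isStrictlyLE _ m (isFlat_single m isFlat_structureModule)

/-- The structure complex represents `O`. -/
def strOIso : DerivedCategory.Q.obj (strO Y) ≅ DCoh.inD Y (Coh.structureModule Y) :=
  ((DerivedCategory.singleFunctorIsoCompQ Y.Modules 0).app (Coh.structureModule Y)).symm

lemma isQCohD_strO : DCoh.IsQCohD (DerivedCategory.Q.obj (strO Y)) :=
  isQCohD_of_iso strOIso.symm (DQGen.isQCohD_of_isPerfect (S7279.isPerfect_structure Y))

/-- The structure sheaf in `D_QCoh`. -/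
def unitDQ (Y : Scheme.{u}) : DCoh.DQCoh Y := ⟨DerivedCategory.Q.obj (strO Y), isQCohD_strO⟩

/-- `- ⊗ O ≅ id` on complexes. -/
def unitV : (DCoh.tensorCx (X := Y)).flip.obj (strO Y) ≅ 𝟭 (CochainComplex Y.Modules ℤ) :=
  Inner.tensorUnitShiftIso (DCoh.tensorBi (X := Y)) (Coh.structureModule Y) (tensorStructureIso Y) 0 ≪≫
    shiftFunctorZero' _ (-0 : ℤ) (by simp)

/-- `O ⊗ - ≅ id` on complexes. -/
def unitU : DCoh.tensorCx.obj (strO Y) ≅ 𝟭 (CochainComplex Y.Modules ℤ) :=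
  (symmIso (tensorBiFlipIso Y) (strO Y)).symm ≪≫ unitV

/-- The projection functor's value at a complex with quasi-coherent cohomology. -/
lemma isQCohD_projH (f : X ⟶ Y) {J : CochainComplex X.Modules ℤ}
    (hJ : DCoh.IsQCohD (DerivedCategory.Q.obj J)) {K : DCoh.D Y} (hK : DCoh.IsQCohD K) :
    DCoh.IsQCohD ((projH f J).obj K) := by
  obtain ⟨P, hP, ⟨e⟩⟩ := exists_kFlat_rep K
  haveI := hasLpull f
  haveI := hasLTensorCx J
  haveI := isIso_kLiftε (kRespects_pullTensor f J) hP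
  have hPq : DCoh.IsQCohD (DerivedCategory.Q.obj P) := isQCohD_of_iso e.symm hK
  have hpull : DCoh.IsQCohD (DerivedCategory.Q.obj ((pullCx f).obj P)) :=
    isQCohD_of_iso (lpullIso f hP) (isQCohD_lpull f hPq)
  refine isQCohD_of_iso ((asIso ((kLiftε (kRespects_pullTensor f J)).app P)).symm ≪≫ (projH f J).mapIso e) ?_
  exact isQCohD_of_iso (ltensorCxIso J (isKFlat_pullback f hP) ≪≫
    DerivedCategory.Q.mapIso (braidCx ((pullCx f).obj P) J)) (isQCohD_ltensor J hJ hpull)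

variable (f : X ⟶ Y) [DCoh.HasRpush f]

/-- The trace `R ⊗ - ⟶ id` at the level of derived categories. -/
lemma exists_tau {R JO : CochainComplex Y.Modules ℤ} (c₁ : R ⟶ JO) (s : strO Y ⟶ JO) [QuasiIso s] :
    ∃ τ : projF R ⟶ 𝟭 (DCoh.D Y), ∀ (P : CochainComplex Y.Modules ℤ)
      [IsIso (DerivedCategory.Q.map ((DCoh.tensorCx.map s).app P))],
      τ.app (DerivedCategory.Q.obj P) = (kLiftε (kRespects_tensor R)).app P ≫
        DerivedCategory.Q.map ((DCoh.tensorCx.map c₁).app P) ≫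
          inv (DerivedCategory.Q.map ((DCoh.tensorCx.map s).app P)) ≫ DerivedCategory.Q.map (unitU.hom.app P) := by
  haveI : ∀ P, IsIso (DerivedCategory.Q.map ((DCoh.tensorCx.map s).app ((kRes Y).obj P))) := fun P =>
    isIso_Q_map _ (S0949.result _ (isKFlat_kRes P) s)
  obtain ⟨T, hT⟩ := exists_unit_trace (kRes Y) (flatCover Y).ψ DCoh.tensorCx DerivedCategory.Q
    (unitU (Y := Y)) c₁ s
  letI : Localization.Lifting DerivedCategory.Q (qisX Y) (DerivedCategory.Q ⋙ projF R) (projF R) :=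
    ⟨Iso.refl _⟩
  letI : Localization.Lifting DerivedCategory.Q (qisX Y) (DerivedCategory.Q (C := Y.Modules))
      (𝟭 (DCoh.D Y)) := ⟨Functor.rightUnitor _⟩
  let τ : projF R ⟶ 𝟭 (DCoh.D Y) := Localization.liftNatTrans DerivedCategory.Q (qisX Y)
    (DerivedCategory.Q ⋙ projF R) DerivedCategory.Q _ _ ((kLiftFac (kRespects_tensor R)).hom ≫ T)
  refine ⟨τ, fun P _ => ?_⟩
  have happ : τ.app (DerivedCategory.Q.obj P) =
      (kLiftFac (kRespects_tensor R)).hom.app P ≫ T.app P := by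
    simp only [τ, Localization.liftNatTrans_app]
    exact (Category.id_comp _).trans (Category.comp_id _)
  refine happ.trans ?_
  simp only [kLiftε, Category.assoc]
  exact congrArg ((kLiftFac (kRespects_tensor R)).hom.app P ≫ ·) (hT P)

omit [DCoh.HasRpush f] in
/-- The projection map at a shift of the structure sheaf is a mate. -/
lemma exists_mate (m : ℤ) :
    ∃ μ : pushCxF f ⋙ (DCoh.tensorCx (X := Y)).flip.obj (strS Y m) ⟶
        (DCoh.tensorCx (X := X)).flip.obj ((pullCx f).obj (strS Y m)) ⋙ pushCxF f,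
      Nonempty ((DCoh.tensorCx (X := Y)).flip.obj (strS Y m) ≅ shiftFunctor (CochainComplex Y.Modules ℤ) (-m)) ∧
      Nonempty ((DCoh.tensorCx (X := X)).flip.obj ((pullCx f).obj (strS Y m)) ≅
        shiftFunctor (CochainComplex X.Modules ℤ) (-m)) ∧
      (∀ I, IsIso (μ.app I)) ∧
      ∀ (R : CochainComplex Y.Modules ℤ) (J : CochainComplex X.Modules ℤ) (r : R ⟶ (pushCxF f).obj J),
        projCx f R J r (strS Y m) = (DCoh.tensorCx.map r).app (strS Y m) ≫ μ.app J := by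
  let P := strS Y m
  haveI : IsIso (SheafOfModules.pullbackObjUnitToUnit f.toRingCatSheafHom) := inferInstance
  let e : (Scheme.Modules.pullback f).obj (Coh.structureModule Y) ≅ Coh.structureModule X :=
    asIso (SheafOfModules.pullbackObjUnitToUnit f.toRingCatSheafHom)
  let eS : (pullCx f).obj P ≅ strS X m :=
    (HomologicalComplex.singleMapHomologicalComplex (Scheme.Modules.pullback f) _ m).app _ ≪≫
      (HomologicalComplex.single _ _ m).mapIso e
  let F₁ := Inner.tenX (DCoh.tensorBi (X := Y)) P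
  let F₂ := Inner.tenX (DCoh.tensorBi (X := X)) ((pullCx f).obj P)
  let e₁ : F₁ ≅ shiftFunctor (CochainComplex Y.Modules ℤ) (-m) :=
    Inner.tensorUnitShiftIso (DCoh.tensorBi (X := Y)) (Coh.structureModule Y) (tensorStructureIso Y) m
  let e₂ : F₂ ≅ shiftFunctor (CochainComplex X.Modules ℤ) (-m) :=
    DCoh.tensorBi.map₂CochainComplex.flip.mapIso eS ≪≫
      Inner.tensorUnitShiftIso (DCoh.tensorBi (X := X)) (Coh.structureModule X) (tensorStructureIso X) m
  haveI : F₁.IsEquivalence := Functor.isEquivalence_of_iso e₁.symm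
  haveI : F₂.IsEquivalence := Functor.isEquivalence_of_iso e₂.symm
  let α : F₁ ⋙ pullCx f ≅ pullCx f ⋙ F₂ := (totalMapNatIso (pullTensorBiIso f) P).symm
  exact ⟨mateNat (pullPushCxAdj f) α, ⟨e₁⟩, ⟨e₂⟩, fun I => isIso_mate (pullPushCxAdj f) α I,
    fun R J r => adjunct_eq_mate (pullPushCxAdj f) α r⟩

variable [QuasiCompact f] [QuasiSeparated f]
  (h : DCoh.RpushPreservesQCoh f) (a : DCoh.DQCoh Y ⥤ DCoh.DQCoh X) (ad : DCoh.RpushQ f h ⊣ a)

include ad in
/-- The comparison map, invertible at the shifts of the structure sheaf. -/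
theorem exists_comparison (J : CochainComplex X.Modules ℤ) [J.IsKInjective]
    (eJ : DerivedCategory.Q.obj J ≅ (a.obj (unitDQ Y)).obj) :
    ∃ θ : ObjectProperty.ι _ ⋙ projH f J ⟶ a ⋙ ObjectProperty.ι _,
      ∀ (m : ℤ) (hm : DCoh.IsQCohD (DerivedCategory.Q.obj (strS Y m))), IsIso (θ.app ⟨_, hm⟩) := by
  have hJ : DCoh.IsQCohD (DerivedCategory.Q.obj J) := isQCohD_of_iso eJ.symm (a.obj _).property
  let R := (kRes Y).obj ((pushCxF f).obj J)
  let r : R ⟶ (pushCxF f).obj J := (flatCover Y).ψ.app _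
  haveI : QuasiIso r := (flatCover Y).quasiIso_ψ _
  haveI := isIso_Q_map r inferInstance
  have hR : DCoh.IsKFlat R := isKFlat_kRes _
  obtain ⟨JO, s, hJO, hs⟩ := exists_kInjective_res (strO Y)
  haveI := hJO
  haveI := hs
  haveI hQs := isIso_Q_map s hs
  let d : (DCoh.Rpush f).obj (DerivedCategory.Q.obj J) ⟶ DerivedCategory.Q.obj (strO Y) :=
    (DCoh.Rpush f).map eJ.hom ≫ (ad.counit.app (unitDQ Y)).hom
  obtain ⟨c₁, hc₁⟩ := exists_Q_map
    (DerivedCategory.Q.map r ≫ (rpushUnit f).app J ≫ d ≫ DerivedCategory.Q.map s)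
  obtain ⟨τ, hτ⟩ := exists_tau c₁ s
  let ι' := (DCoh.IsQCohD (X := Y)).ι
  let θp := Functor.whiskerLeft ι' (projθ f J r)
  haveI : ∀ K, IsIso (θp.app K) := fun K => by
    let eK := DerivedCategory.Q.objObjPreimageIso K.obj
    exact (NatTrans.isIso_app_iff_of_iso (projθ f J r) eK).1
      (isIso_projθ f J r hR hJ _ (isQCohD_of_iso eK.symm K.property))
  haveI := NatIso.isIso_of_isIso_app θp
  let φ := inv θp ≫ Functor.whiskerLeft ι' τ
  have hG : ∀ K, DCoh.IsQCohD ((ι' ⋙ projH f J).obj K) := fun K => isQCohD_projH f hJ K.property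
  let G' : DCoh.DQCoh Y ⥤ DCoh.DQCoh X := ObjectProperty.lift (DCoh.IsQCohD (X := X)) (ι' ⋙ projH f J) hG
  let φ' : G' ⋙ DCoh.RpushQ f h ⟶ 𝟭 _ :=
    { app := fun K => ObjectProperty.homMk (φ.app K)
      naturality := fun K L g => ObjectProperty.hom_ext _ (φ.naturality g) }
  let θ' : G' ⟶ a :=
    { app := fun K => ad.homEquiv _ _ (φ'.app K)
      naturality := fun K L g => by
        rw [← ad.homEquiv_naturality_left, ← ad.homEquiv_naturality_right]
        exact congrArg (ad.homEquiv _ _) (φ'.naturality g) }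
  refine ⟨Functor.whiskerRight θ' (DCoh.IsQCohD (X := X)).ι, fun m hm => ?_⟩
  suffices hθ : IsIso (θ'.app ⟨_, hm⟩) by
    haveI := hθ
    show IsIso ((DCoh.IsQCohD (X := X)).ι.map (θ'.app ⟨_, hm⟩))
    infer_instance
  let K₀ : DCoh.DQCoh Y := ⟨DerivedCategory.Q.obj (strS Y m), hm⟩
  obtain ⟨μ, ⟨e₁⟩, ⟨e₂⟩, hμ, hproj⟩ := exists_mate f m
  let P := strS Y m
  let F₁ := (DCoh.tensorCx (X := Y)).flip.obj P
  let F₂ := (DCoh.tensorCx (X := X)).flip.obj ((pullCx f).obj P)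
  haveI := isIso_kLiftε (kRespects_pullTensor f J) (isKFlat_strS (Y := Y) m)
  haveI := isIso_kLiftε (kRespects_tensor R) (isKFlat_strS (Y := Y) m)
  haveI : IsIso ((projθ f J r).app (DerivedCategory.Q.obj P)) := inferInstanceAs (IsIso (θp.app K₀))
  haveI hsP : IsIso (DerivedCategory.Q.map ((DCoh.tensorCx.map s).app P)) :=
    isIso_Q_map _ (S0949.result _ (isKFlat_strS m) s)
  haveI : IsIso (DerivedCategory.Q.map (F₁.map s)) := hsP
  let εH : (projH f J).obj (DerivedCategory.Q.obj P) ⟶ DerivedCategory.Q.obj (F₂.obj J) :=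
    (kLiftε (kRespects_pullTensor f J)).app P
  haveI : IsIso εH := by assumption
  let φ₂ : (DCoh.Rpush f).obj (DerivedCategory.Q.obj (F₂.obj J)) ⟶ DerivedCategory.Q.obj P :=
    inv ((DCoh.Rpush f).map εH) ≫ φ.app K₀
  have hφ₂ : (DerivedCategory.Q.map (F₁.map r) ≫ DerivedCategory.Q.map (μ.app J) ≫
        (rpushUnit f).app (F₂.obj J)) ≫ φ₂ =
      DerivedCategory.Q.map (F₁.map c₁) ≫ inv (DerivedCategory.Q.map (F₁.map s)) ≫
        (DerivedCategory.Q.mapIso ((unitU (Y := Y)).app P)).hom := by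
    have hΘ : (projΘ f J r).app P = DerivedCategory.Q.map (F₁.map r) ≫ DerivedCategory.Q.map (μ.app J) ≫
        (rpushUnit f).app (F₂.obj J) := by
      rw [← Functor.map_comp_assoc]
      exact congrArg (fun t => DerivedCategory.Q.map t ≫ _) (hproj R J r)
    rw [← hΘ]
    simp only [φ₂, φ, NatTrans.comp_app, NatIso.isIso_inv_app]
    exact inv_chain (projθ_comp_ε f J r P) (hτ P)
  refine isIso_of_yoneda_map_bijective _ fun T => ?_
  obtain ⟨I₀, hI₀, -, ⟨eT₀⟩⟩ := exists_kInjective_rep T.obj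
  haveI := hI₀
  let I := (shiftFunctor (CochainComplex X.Modules ℤ) m).obj I₀
  let eT : T.obj ≅ DerivedCategory.Q.obj (F₂.obj I) := eT₀ ≪≫
    DerivedCategory.Q.mapIso (((shiftFunctorCompIsoId (CochainComplex X.Modules ℤ) m (-m) (by omega)).app I₀).symm ≪≫
      (e₂.app I).symm)
  have hIq : DCoh.IsQCohD (DerivedCategory.Q.obj I) :=
    isQCohD_of_iso ((DerivedCategory.Q.commShiftIso m).app I₀).symm
      (isQCohD_shift (isQCohD_of_iso eT₀ T.property) m)
  haveI := isIso_rpushUnit_of_kInjective f I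
  haveI : (F₂.obj I).IsKInjective := CochainComplex.isKInjective_of_iso (e₂.app I).symm
  haveI := isIso_rpushUnit_of_kInjective f (F₂.obj I)
  haveI := hμ I
  have hu : Function.Bijective fun g : DerivedCategory.Q.obj I ⟶ DerivedCategory.Q.obj J =>
      (DCoh.Rpush f).map g ≫ d := by
    let I' : DCoh.DQCoh X := ⟨_, hIq⟩
    let E : (DerivedCategory.Q.obj I ⟶ DerivedCategory.Q.obj J) ≃
        ((DCoh.Rpush f).obj (DerivedCategory.Q.obj I) ⟶ DerivedCategory.Q.obj (strO Y)) :=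
      (Iso.homCongr (Iso.refl _) eJ).trans
        (((DCoh.IsQCohD (X := X)).fullyFaithfulι.homEquiv (X := I') (Y := a.obj (unitDQ Y))).symm.trans
          ((ad.homEquiv I' (unitDQ Y)).symm.trans
            ((DCoh.IsQCohD (X := Y)).fullyFaithfulι.homEquiv)))
    convert E.bijective using 1
    funext g
    simp only [d, E, Equiv.trans_apply, Adjunction.homEquiv_counit]
    rw [← Functor.map_comp_assoc]
    exact congrArg (fun t => (DCoh.Rpush f).map t ≫ _) (Category.id_comp _).symm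
  have hb := bijective_universal (H := DCoh.Rpush f) (QX := DerivedCategory.Q) (QY := DerivedCategory.Q)
    (rpushUnit f) μ (Functor.isoWhiskerRight e₁ DerivedCategory.Q ≪≫ DerivedCategory.Q.commShiftIso (-m))
    (Functor.isoWhiskerRight e₂ DerivedCategory.Q ≪≫ DerivedCategory.Q.commShiftIso (-m))
    (I := I) (J := J) (fun g => exists_Q_map g) r c₁ s
    (DerivedCategory.Q.mapIso ((unitU (Y := Y)).app P)) d hc₁ hu φ₂ hφ₂
  let E₁ : (T ⟶ G'.obj K₀) ≃ (DerivedCategory.Q.obj (F₂.obj I) ⟶ DerivedCategory.Q.obj (F₂.obj J)) :=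
    ((DCoh.IsQCohD (X := X)).fullyFaithfulι.homEquiv).trans (Iso.homCongr eT (asIso εH))
  let E₂ : ((DCoh.Rpush f).obj (DerivedCategory.Q.obj (F₂.obj I)) ⟶ DerivedCategory.Q.obj P) ≃
      (T ⟶ a.obj K₀) :=
    (Iso.homCongr ((DCoh.Rpush f).mapIso eT).symm (Iso.refl _)).trans
      (((DCoh.IsQCohD (X := Y)).fullyFaithfulι.homEquiv (X := (DCoh.RpushQ f h).obj T) (Y := K₀)).symm.trans
        (ad.homEquiv T K₀))
  convert (E₂.bijective.comp hb).comp E₁.bijective using 1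
  funext x
  change x ≫ ad.homEquiv _ _ (φ'.app K₀) = _
  rw [← ad.homEquiv_naturality_left]
  refine congrArg (ad.homEquiv T K₀) (ObjectProperty.hom_ext _ ?_)
  change (DCoh.Rpush f).map x.hom ≫ φ.app K₀ = ((DCoh.Rpush f).mapIso eT).hom ≫
    ((DCoh.Rpush f).map (eT.inv ≫ x.hom ≫ εH) ≫ φ₂) ≫ 𝟙 _
  simp [φ₂]

end Groth.Agent.AdjTwist
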