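import Groth.Agent.DQGen.Adjoints

/-!
# The right adjoint of `Rf_*` is exact
-/

set_option autoImplicit false
set_option linter.style.haveILetI false
set_option backward.isDefEq.respectTransparency false
set_option backward.isDefEq.respectTransparency.types false

universe u

open CategoryTheory CategoryTheory.Limits AlgebraicGeometry Pretriangulated

attribute [local instance] HasDerivedCategory.standard

noncomputable section

namespace Groth.Agent.AdjTwist

open Groth.Agent Groth.Agent.KFlatLib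

variable {X Y : Scheme.{u}}

theorem exists_isTriangulated_rightAdjoint (f : X ⟶ Y) [DCoh.HasRpush f]
    (h : DCoh.RpushPreservesQCoh f) (a : DCoh.DQCoh Y ⥤ DCoh.DQCoh X) (ad : DCoh.RpushQ f h ⊣ a) :
    ∃ cs : a.CommShift ℤ, letI := cs; a.IsTriangulated := by
  haveI := TriCat.qh_isLeftAdjoint_of_exists_resolution (A := X.Modules) exists_kInjective_res
  let adjQ := Adjunction.ofIsLeftAdjoint (DerivedCategory.Qh (C := X.Modules))
  let ρ := (DerivedCategory.Qh (C := X.Modules)).rightAdjoint
  let W := HomotopyCategory.quasiIso X.Modules (ComplexShape.up ℤ)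
  haveI : (ρ ⋙ DCoh.pushKh f).IsRightDerivedFunctor
      (Functor.whiskerRight adjQ.unit (DCoh.pushKh f)) W :=
    TriCat.isRightDerivedFunctor_of_adjunction adjQ W (DCoh.pushKh f)
  let e : ρ ⋙ DCoh.pushKh f ≅ DCoh.Rpush f :=
    Functor.rightDerivedUnique _ _ (Functor.whiskerRight adjQ.unit (DCoh.pushKh f))
      ((DCoh.pushKh f).totalRightDerivedUnit DerivedCategory.Qh W) W
  letI := adjQ.rightAdjointCommShift ℤ
  haveI := adjQ.commShift_of_leftAdjoint ℤ
  haveI : ρ.IsTriangulated := adjQ.isTriangulated_rightAdjoint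
  have hF : ∀ K, DCoh.IsQCohD (((DCoh.IsQCohD (X := X)).ι ⋙ ρ ⋙ DCoh.pushKh f).obj K) := fun K =>
    isQCohD_of_iso (e.app K.obj).symm (h K.obj K.property)
  let F' := ObjectProperty.lift (DCoh.IsQCohD (X := Y)) ((DCoh.IsQCohD (X := X)).ι ⋙ ρ ⋙ DCoh.pushKh f) hF
  let e' : F' ≅ DCoh.RpushQ f h :=
    ((DCoh.IsQCohD (X := Y)).fullyFaithfulι.whiskeringRight _).preimageIso
      (Functor.isoWhiskerLeft (DCoh.IsQCohD (X := X)).ι e)
  let ad' : F' ⊣ a := ad.ofNatIsoLeft e'.symm
  haveI : F'.IsTriangulated := inferInstance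
  letI := ad'.rightAdjointCommShift ℤ
  haveI := ad'.commShift_of_leftAdjoint ℤ
  exact ⟨_, ad'.isTriangulated_rightAdjoint⟩

end Groth.Agent.AdjTwist
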