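import Groth.Agent.AdjTwist.Compact
import Groth.Agent.AdjTwist.Triangle
import Groth.Agent.AdjTwist.Comparison
import Groth.Agent.RBC.AffineGen

/-!
# The comparison map is invertible everywhere
-/

set_option autoImplicit false
set_option linter.style.haveILetI false
set_option backward.isDefEq.respectTransparency false
set_option backward.isDefEq.respectTransparency.types false
set_option maxHeartbeats 800000
set_option synthInstance.maxHeartbeats 400000

universe u

open CategoryTheory CategoryTheory.Limits AlgebraicGeometry Pretriangulated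

attribute [local instance] HasDerivedCategory.standard

noncomputable section

namespace Groth.Agent.AdjTwist

open Groth.Agent Groth.Agent.KFlatLib

variable {X Y : Scheme.{u}} (f : X ⟶ Y) (a : DCoh.DQCoh Y ⥤ DCoh.DQCoh X) (J : CochainComplex X.Modules ℤ)
  (θ : ObjectProperty.ι _ ⋙ projH f J ⟶ a ⋙ ObjectProperty.ι _) (W : Y.Opens)

/-- Objects where the comparison is invertible over `W` after all shifts. -/
def CW (K : DCoh.DQCoh Y) : Prop :=
  ∀ n : ℤ, IsIso ((rho (f ⁻¹ᵁ W).ι).map (θ.app (K⟦n⟧)))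

lemma cw_of_iso {A B : DCoh.DQCoh Y} (e : A ≅ B) (hA : CW f a J θ W A) : CW f a J θ W B := fun n =>
  (NatTrans.isIso_app_iff_of_iso (Functor.whiskerRight θ (rho (f ⁻¹ᵁ W).ι))
    ((shiftFunctor (DCoh.DQCoh Y) n).mapIso e)).1 (hA n)

variable [DCoh.HasRpush f] [a.CommShift ℤ] [a.IsTriangulated]

lemma cw_obj₃ (T : Triangle (DCoh.DQCoh Y)) (hT : T ∈ distTriang (DCoh.DQCoh Y))
    (h₁ : CW f a J θ W T.obj₁) (h₂ : CW f a J θ W T.obj₂) : CW f a J θ W T.obj₃ := fun n => by
  let U := rho (f ⁻¹ᵁ W).ι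
  let ι' := (DCoh.IsQCohD (X := Y)).ι
  refine (DerivedCategory.isIso_iff _ _).2 fun i => ?_
  let H := U ⋙ DerivedCategory.homologyFunctor (f ⁻¹ᵁ W : Scheme.{u}).Modules i
  haveI : (projH f J ⋙ H).IsHomological :=
    isHomological_kLift_comp (kRespects_pullTensor f J) (splitting_pullTensor f J) _
  haveI : ((ι' ⋙ projH f J) ⋙ H).IsHomological :=
    Functor.IsHomological.of_iso (Functor.associator ι' (projH f J) H).symm
  haveI : ((a ⋙ (DCoh.IsQCohD (X := X)).ι) ⋙ H).IsHomological := inferInstance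
  exact isIso_app_shift_obj₃ (Functor.whiskerRight θ H) T hT
    (fun m => (DerivedCategory.isIso_iff _ _).1 (h₁ m) i)
    (fun m => (DerivedCategory.isIso_iff _ _).1 (h₂ m) i) n

omit [DCoh.HasRpush f] [a.CommShift ℤ] [a.IsTriangulated] in
lemma cw_sigma [∀ I : Type u, PreservesColimitsOfShape (Discrete I) a] {I : Type u} (C : I → DCoh.DQCoh Y)
    [HasCoproduct C] (h : ∀ j, CW f a J θ W (C j)) : CW f a J θ W (∐ C) := fun n => by
  haveI : HasColimitsOfShape (Discrete I) (DCoh.DQCoh Y) := DQGen.hasSums_DQCoh I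
  haveI : HasColimitsOfShape (Discrete I) (DCoh.DQCoh X) := DQGen.hasSums_DQCoh I
  haveI : HasColimitsOfShape (Discrete I) (DCoh.D Y) := TriCat.hasColimitsOfShape_derivedCategory
  haveI : HasColimitsOfShape (Discrete I) (DCoh.D X) := TriCat.hasColimitsOfShape_derivedCategory
  haveI := preservesColimitsOfShape₂ DCoh.tensorBi (Discrete I) J
  haveI : PreservesColimitsOfShape (Discrete I) (pullCx f) :=
    ⟨fun {K} => ⟨fun {c} hc => ⟨HomologicalComplex.isColimitOfEval _ _ fun n =>
      isColimitOfPreserves (HomologicalComplex.eval Y.Modules (ComplexShape.up ℤ) n ⋙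
        Scheme.Modules.pullback f) hc⟩⟩⟩
  let C' := fun j => (C j)⟦n⟧
  let U := rho (f ⁻¹ᵁ W).ι
  let ιY := (DCoh.IsQCohD (X := Y)).ι
  let ιX := (DCoh.IsQCohD (X := X)).ι
  haveI : PreservesColimit (Discrete.functor C') ((ιY ⋙ projH f J) ⋙ U) := by
    haveI : PreservesColimit (Discrete.functor C' ⋙ ιY) (projH f J) := by
      haveI := preservesColimit_kLift (kRespects_pullTensor f J) fun j => ιY.obj (C' j)
      exact preservesColimit_of_iso_diagram (K₁ := Discrete.functor fun j => ιY.obj (C' j)) _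
        (Discrete.natIso fun j => Iso.refl _)
    haveI : PreservesColimit (Discrete.functor C' ⋙ ιY ⋙ projH f J) U := by
      haveI := preservesColimit_restrictD (f ⁻¹ᵁ W).ι fun j => (projH f J).obj (ιY.obj (C' j))
      exact preservesColimit_of_iso_diagram (K₁ := Discrete.functor fun j => (projH f J).obj (ιY.obj (C' j))) _
        (Discrete.natIso fun j => Iso.refl _)
    infer_instance
  haveI : PreservesColimit (Discrete.functor C') ((a ⋙ ιX) ⋙ U) := by
    haveI : PreservesColimit (Discrete.functor C' ⋙ a ⋙ ιX) U := by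
      haveI := preservesColimit_restrictD (f ⁻¹ᵁ W).ι fun j => ιX.obj (a.obj (C' j))
      exact preservesColimit_of_iso_diagram (K₁ := Discrete.functor fun j => ιX.obj (a.obj (C' j))) _
        (Discrete.natIso fun j => Iso.refl _)
    infer_instance
  exact (NatTrans.isIso_app_iff_of_iso (Functor.whiskerRight θ U)
    (PreservesCoproduct.iso (shiftFunctor (DCoh.DQCoh Y) n) C)).2
    (isIso_app_sigma (Functor.whiskerRight θ U) C' fun j => h j n)

variable [CompactSpace Y] [QuasiSeparatedSpace Y] [CompactSpace X] [QuasiSeparatedSpace X]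
  [QuasiCompact f] [QuasiSeparated f]
  (h : DCoh.RpushPreservesQCoh f) (ad : DCoh.RpushQ f h ⊣ a)
  (hperf : ∀ P : DCoh.D X, DCoh.IsPerfect P → DCoh.IsPerfect ((DCoh.Rpush f).obj P))

include ad hperf in
/-- The class only sees the restriction to `W`. -/
lemma cw_iff_of_isIso (hW : IsCompact (W : Set Y)) {A B : DCoh.DQCoh Y} (g : A ⟶ B)
    (hg : IsIso ((rho W.ι).map g.hom)) : CW f a J θ W A ↔ CW f a J θ W B := by
  let ιY := (DCoh.IsQCohD (X := Y)).ι
  let ιX := (DCoh.IsQCohD (X := X)).ι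
  have hn : ∀ n : ℤ, IsIso ((ιY ⋙ rho W.ι).map (g⟦n⟧')) := fun n => by
    haveI : IsIso ((ιY ⋙ rho W.ι).map g) := hg
    exact (NatIso.isIso_map_iff ((ιY ⋙ rho W.ι).commShiftIso n) g).2
      (Functor.map_isIso (shiftFunctor _ n) ((ιY ⋙ rho W.ι).map g))
  have hG : ∀ n : ℤ, IsIso ((rho (f ⁻¹ᵁ W).ι).map ((ιY ⋙ projH f J).map (g⟦n⟧'))) := fun n =>
    (isIso_restrictD_projFH f J W (isKFlat_strO (Y := Y)) (ιY.map (g⟦n⟧')) (hn n)).2
  have ha : ∀ n : ℤ, IsIso ((rho (f ⁻¹ᵁ W).ι).map ((a ⋙ ιX).map (g⟦n⟧'))) := fun n => by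
    obtain ⟨Z, u, v, hT⟩ := distinguished_cocone_triangle (g⟦n⟧')
    haveI := hn n
    have hZ : IsZero ((rho W.ι).obj (ιY.obj Z)) :=
      (Triangle.isZero₃_iff_isIso₁ _ ((ιY ⋙ rho W.ι).map_distinguished _ hT)).2 (hn n)
    have hZ' : IsZero ((rho (f ⁻¹ᵁ W).ι).obj (ιX.obj (a.obj Z))) :=
      AdjSupp.isZero_rho_rightAdjoint f h a ad W hW Z hZ fun P hP => Or.inl (hperf P hP)
    exact (Triangle.isZero₃_iff_isIso₁ _
      (((a ⋙ ιX) ⋙ rho (f ⁻¹ᵁ W).ι).map_distinguished _ hT)).1 hZ'
  refine forall_congr' fun n => ?_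
  haveI := hG n
  haveI := ha n
  have w := congrArg (fun t => (rho (f ⁻¹ᵁ W).ι).map t) (θ.naturality (g⟦n⟧'))
  simp only [Functor.map_comp] at w
  rw [← isIso_comp_right_iff _ ((rho (f ⁻¹ᵁ W).ι).map ((a ⋙ ιX).map (g⟦n⟧'))), ← w, isIso_comp_left_iff]

include ad hperf in
/-- Over an affine open, everything is in the class. -/
theorem cw_of_isAffineOpen [∀ I : Type u, PreservesColimitsOfShape (Discrete I) a]
    (hθ : ∀ (m : ℤ) (hm : DCoh.IsQCohD (DerivedCategory.Q.obj (strS Y m))), IsIso (θ.app ⟨_, hm⟩))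
    (hW : IsAffineOpen W) (K : DCoh.DQCoh Y) : CW f a J θ W K := by
  haveI : IsAffine (W : Scheme.{u}) := hW
  haveI : QuasiCompact W.ι := quasiCompact_of_compactSpace W.ι
  let Z : Scheme.{u} := W
  let B := Γ(Z, ⊤)
  let j := Z.isoSpec.hom
  haveI : PreservesFiniteLimits (tilde.functor B) := QCoh.tilde_preservesFiniteLimits (R := B)
  let T : DerivedCategory (ModuleCat.{u} B) ⥤ DCoh.D Z := DCoh.tildeD B ⋙ rho j
  let Gx : CochainComplex (ModuleCat.{u} B) ℤ ⥤ CochainComplex Z.Modules ℤ :=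
    (tilde.functor B).mapHomologicalComplex (ComplexShape.up ℤ) ⋙ rCx j
  let eT : DerivedCategory.Q ⋙ T ≅ Gx ⋙ DerivedCategory.Q :=
    (Functor.associator _ _ _).symm ≪≫
      Functor.isoWhiskerRight (tilde.functor B).mapDerivedCategoryFactors _ ≪≫
      Functor.associator _ _ _ ≪≫ Functor.isoWhiskerLeft _ (rhoQ j) ≪≫ (Functor.associator _ _ _).symm
  have hTq : ∀ M, DCoh.IsQCohD (T.obj M) := fun M => isQCohD_restrictD j (isQCohD_tildeD B M)
  let L : DerivedCategory (ModuleCat.{u} B) ⥤ DCoh.DQCoh Y :=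
    ObjectProperty.lift (DCoh.IsQCohD (X := Y)) (T ⋙ DCoh.Rpush W.ι)
      (fun M => isQCohD_rpush W.ι (hTq M))
  let ιY := (DCoh.IsQCohD (X := Y)).ι
  have hlink : ∀ (A : DCoh.DQCoh Y) (M : DerivedCategory (ModuleCat.{u} B)),
      Nonempty (T.obj M ≅ (rho W.ι).obj A.obj) → (CW f a J θ W (L.obj M) ↔ CW f a J θ W A) := by
    rintro A M ⟨e⟩
    let g : A ⟶ L.obj M := ObjectProperty.homMk
      ((DQGen.adj W.ι).unit.app A.obj ≫ (DCoh.Rpush W.ι).map e.inv)
    haveI : IsIso ((rho W.ι).map ((DQGen.adj W.ι).unit.app A.obj)) := by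
      haveI : IsIso ((rho W.ι).map ((DQGen.adj W.ι).unit.app A.obj) ≫
          (DQGen.adj W.ι).counit.app ((rho W.ι).obj A.obj)) := by
        rw [(DQGen.adj W.ι).left_triangle_components A.obj]
        exact IsIso.id _
      exact IsIso.of_isIso_comp_right _ ((DQGen.adj W.ι).counit.app ((rho W.ι).obj A.obj))
    exact (cw_iff_of_isIso f a J θ W h ad hperf hW.isCompact g
      (by change IsIso ((rho W.ι).map (_ ≫ _)); rw [Functor.map_comp]; infer_instance)).symm
  let Pr : ObjectProperty (DerivedCategory (ModuleCat.{u} B)) := fun M => CW f a J θ W (L.obj M)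
  haveI : Pr.IsClosedUnderIsomorphisms := ⟨fun e hM => cw_of_iso f a J θ W (L.mapIso e) hM⟩
  have hall : ∀ M, Pr M := fun M => by
    refine derived_induction Pr (fun T₀ hT₀ h₁ h₂ => ?_) (fun I N hN => ?_) (fun n => ?_) M
    · obtain ⟨c, hc⟩ := exists_rpush_triangle W.ι _ (T.map_distinguished T₀ hT₀)
      obtain ⟨C, u, v, hC⟩ := distinguished_cocone_triangle (L.map T₀.mor₁)
      let e := isoTriangleOfIso₁₂ _ _ (ιY.map_distinguished _ hC) hc (Iso.refl _) (Iso.refl _)
        ((Category.comp_id _).trans (Category.id_comp _).symm)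
      exact cw_of_iso f a J θ W (ιY.preimageIso (X := C) (Y := L.obj T₀.obj₃) (Triangle.π₃.mapIso e))
        (cw_obj₃ f a J θ W _ hC h₁ h₂)
    · haveI : PreservesColimitsOfShape (Discrete I) Gx := by
        haveI : (tilde.functor B).IsLeftAdjoint := inferInstance
        haveI : (Scheme.Modules.restrictFunctor j).IsLeftAdjoint :=
          (Scheme.Modules.restrictAdjunction j).isLeftAdjoint
        exact ⟨fun {K} => ⟨fun {c} hc => ⟨HomologicalComplex.isColimitOfEval _ _ fun m =>
          isColimitOfPreserves (HomologicalComplex.eval _ (ComplexShape.up ℤ) m ⋙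
            tilde.functor B ⋙ Scheme.Modules.restrictFunctor j) hc⟩⟩⟩
      haveI : HasColimitsOfShape (Discrete I) (DCoh.D Z) := TriCat.hasColimitsOfShape_derivedCategory
      haveI : HasColimitsOfShape (Discrete I) (DCoh.D Y) := TriCat.hasColimitsOfShape_derivedCategory
      haveI : HasColimitsOfShape (Discrete I) (DCoh.DQCoh Y) := DQGen.hasSums_DQCoh I
      haveI := preservesColimit_Q fun k => Gx.obj (N k)
      haveI := DQGen.preservesSums_ι (X := Y) I
      let C₀ := fun k => T.obj (DerivedCategory.Q.obj (N k))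
      haveI := RBC.preservesColimit_rpush (f := W.ι) C₀ fun k => hTq _
      let e₁ : T.obj (DerivedCategory.Q.obj (∐ N)) ≅ ∐ C₀ :=
        eT.app (∐ N) ≪≫ DerivedCategory.Q.mapIso (PreservesCoproduct.iso Gx N) ≪≫
          PreservesCoproduct.iso DerivedCategory.Q _ ≪≫ Sigma.mapIso fun k => (eT.app (N k)).symm
      let e₂ : ιY.obj (∐ fun k => L.obj (DerivedCategory.Q.obj (N k))) ≅
          ιY.obj (L.obj (DerivedCategory.Q.obj (∐ N))) :=
        PreservesCoproduct.iso ιY _ ≪≫ (PreservesCoproduct.iso (DCoh.Rpush W.ι) C₀).symm ≪≫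
          (DCoh.Rpush W.ι).mapIso e₁.symm
      exact cw_of_iso f a J θ W (ιY.preimageIso e₂) (cw_sigma f a J θ W _ hN)
    · have hq : DCoh.IsQCohD (DerivedCategory.Q.obj (strS Y n)) := by
        refine isQCohD_of_iso (?_ : (DerivedCategory.Q.obj (strO Y))⟦-n⟧ ≅ _) (isQCohD_shift isQCohD_strO _)
        exact ((DerivedCategory.Q.commShiftIso (-n)).app _).symm ≪≫ DerivedCategory.Q.mapIso
          ((((CochainComplex.singleFunctors Y.Modules).shiftIso (-n) n 0 (by omega)).app _))
      let e : T.obj (DerivedCategory.Q.obj ((HomologicalComplex.single (ModuleCat.{u} B)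
          (ComplexShape.up ℤ) n).obj (ModuleCat.of B B))) ≅ (rho W.ι).obj (DerivedCategory.Q.obj (strS Y n)) :=
        eT.app _ ≪≫ DerivedCategory.Q.mapIso
          ((rCx j).mapIso ((HomologicalComplex.singleMapHomologicalComplex (tilde.functor B) _ n).app _) ≪≫
            (HomologicalComplex.singleMapHomologicalComplex (Scheme.Modules.restrictFunctor j) _ n).app _ ≪≫
            (HomologicalComplex.single Z.Modules _ n).mapIso
              ((Scheme.Modules.restrictFunctor j).mapIso tildeSelf ≪≫ restrictStructureIso j ≪≫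
                (restrictStructureIso W.ι).symm) ≪≫
            ((HomologicalComplex.singleMapHomologicalComplex (Scheme.Modules.restrictFunctor W.ι) _ n).app _).symm) ≪≫
          ((rhoQ W.ι).app (strS Y n)).symm
      refine (hlink ⟨_, hq⟩ _ ⟨e⟩).2 fun k => ?_
      let e' : (⟨_, hq⟩ : DCoh.DQCoh Y)⟦k⟧ ≅ ⟨DerivedCategory.Q.obj (strS Y (n - k)),
          isQCohD_of_iso (((DerivedCategory.Q.commShiftIso k).app _).symm ≪≫ DerivedCategory.Q.mapIso
            ((((CochainComplex.singleFunctors Y.Modules).shiftIso k (n - k) n (by omega)).app _)))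
            (isQCohD_shift hq k)⟩ :=
        ιY.preimageIso ((ιY.commShiftIso k).app _ ≪≫ ((DerivedCategory.Q.commShiftIso k).app _).symm ≪≫
          DerivedCategory.Q.mapIso
            ((((CochainComplex.singleFunctors Y.Modules).shiftIso k (n - k) n (by omega)).app _)))
      exact (NatTrans.isIso_app_iff_of_iso (Functor.whiskerRight θ (rho (f ⁻¹ᵁ W).ι)) e').2
        (by haveI := hθ (n - k) (isQCohD_of_iso (((DerivedCategory.Q.commShiftIso k).app _).symm ≪≫
              DerivedCategory.Q.mapIso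
                ((((CochainComplex.singleFunctors Y.Modules).shiftIso k (n - k) n (by omega)).app _)))
              (isQCohD_shift hq k))
            exact Functor.map_isIso (rho (f ⁻¹ᵁ W).ι) (θ.app _))
  obtain ⟨M, ⟨eM⟩⟩ := exists_tildeD_iso (isQCohD_restrictD Z.isoSpec.inv (isQCohD_restrictD W.ι K.property))
  refine (hlink K M ⟨(rho j).mapIso eM ≪≫ rhoComp j Z.isoSpec.inv (𝟙 Z) Z.isoSpec.hom_inv_id _ ≪≫
    (rho (𝟙 Z)).mapIso (repIso _).symm ≪≫ (rhoQ (𝟙 Z)).app _ ≪≫
    DerivedCategory.Q.mapIso ((NatIso.mapHomologicalComplex (Scheme.Modules.restrictFunctorId (X := Z))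
      (ComplexShape.up ℤ) ≪≫ Functor.mapHomologicalComplexIdIso Z.Modules (ComplexShape.up ℤ)).app _) ≪≫
    repIso _⟩).1 (hall M)

end Groth.Agent.AdjTwist
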