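import Groth.Agent.AdjTwist.Local

/-!
# `a ≅ Lf^*(-) ⊗^L a(O)`
-/

set_option autoImplicit false
set_option linter.style.haveILetI false
set_option backward.isDefEq.respectTransparency false
set_option backward.isDefEq.respectTransparency.types false
set_option maxHeartbeats 800000
set_option synthInstance.maxHeartbeats 400000

universe u

open CategoryTheory CategoryTheory.Limits AlgebraicGeometry Pretriangulated

attribute [local instance] HasDerivedCategory.standard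

noncomputable section

namespace Groth.Agent.AdjTwist

open Groth.Agent Groth.Agent.KFlatLib

variable {X Y : Scheme.{u}} (f : X ⟶ Y)

/-- `projH` is `Lf^*` followed by the tensor product. -/
lemma nonempty_projH_iso [DCoh.HasLpull f] (J : CochainComplex X.Modules ℤ) [DCoh.HasLTensorCx J] :
    Nonempty (projH f J ≅ DCoh.Lpull f ⋙ DCoh.LTensorCx J) := by
  let L := DCoh.Lpull f ⋙ DCoh.LTensorCx J
  let w₁ := Functor.whiskerRight (Functor.whiskerRight (flatCover Y).ψ DerivedCategory.Q) L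
  haveI : ∀ P, IsIso (w₁.app P) := fun P =>
    haveI := isIso_Q_map _ ((flatCover Y).quasiIso_ψ P)
    inferInstanceAs (IsIso (L.map (DerivedCategory.Q.map ((flatCover Y).ψ.app P))))
  haveI := NatIso.isIso_of_isIso_app w₁
  let w₂ := Functor.whiskerLeft (kRes Y) (Functor.whiskerRight (lpullComparison f) (DCoh.LTensorCx J))
  haveI : ∀ P, IsIso (w₂.app P) := fun P => by
    haveI := isIso_lpullComparison f (isKFlat_kRes P)
    exact inferInstanceAs (IsIso ((DCoh.LTensorCx J).map ((lpullComparison f).app ((kRes Y).obj P))))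
  haveI := NatIso.isIso_of_isIso_app w₂
  let w₃ := Functor.whiskerLeft (kRes Y ⋙ pullCx f)
    ((DCoh.tensorCxQ J).totalLeftDerivedCounit DerivedCategory.Q (qisX X))
  haveI : ∀ P, IsIso (w₃.app P) := fun P =>
    isIso_LTensorCx_counit J (isKFlat_pullback f (isKFlat_kRes P))
  haveI := NatIso.isIso_of_isIso_app w₃
  let e₀ : (DCoh.tensorCx (X := X)).flip.obj J ≅ DCoh.tensorCx.obj J := symmIso (tensorBiFlipIso X) J
  let α : DerivedCategory.Q ⋙ L ≅ kRes Y ⋙ (pullCx f ⋙ DCoh.tensorCx.obj J) ⋙ DerivedCategory.Q :=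
    (asIso w₁).symm ≪≫ asIso w₂ ≪≫ asIso w₃ ≪≫
      Functor.isoWhiskerLeft (kRes Y ⋙ pullCx f) (Functor.isoWhiskerRight e₀ DerivedCategory.Q)
  letI : Localization.Lifting DerivedCategory.Q (qisX Y) (DerivedCategory.Q ⋙ projH f J) (projH f J) :=
    ⟨Iso.refl _⟩
  letI : Localization.Lifting DerivedCategory.Q (qisX Y) (DerivedCategory.Q ⋙ L) L := ⟨Iso.refl _⟩
  exact ⟨Localization.liftNatIso DerivedCategory.Q (qisX Y) (DerivedCategory.Q ⋙ projH f J)
    (DerivedCategory.Q ⋙ L) _ _ (kLiftFac (kRespects_pullTensor f J) ≪≫ α.symm)⟩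

/-- **The right adjoint is the twisted pullback when it preserves sums.** -/
theorem nonempty_rightAdjoint_iso [CompactSpace Y] [QuasiSeparatedSpace Y] [CompactSpace X]
    [QuasiSeparatedSpace X] [DCoh.HasRpush f] (h : DCoh.RpushPreservesQCoh f)
    (a : DCoh.DQCoh Y ⥤ DCoh.DQCoh X) (ad : DCoh.RpushQ f h ⊣ a)
    (hcop : ∀ I : Type u, PreservesColimitsOfShape (Discrete I) a)
    (O : DCoh.DQCoh Y) (hO : Nonempty (O.obj ≅ DCoh.inD Y (Coh.structureModule Y))) [DCoh.HasLpull f]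
    (E : CochainComplex X.Modules ℤ) (hE : Nonempty (DCoh.toD X E ≅ (a.obj O).obj)) [DCoh.HasLTensorCx E] :
    Nonempty (a ⋙ ObjectProperty.ι _ ≅ ObjectProperty.ι _ ⋙ DCoh.Lpull f ⋙ DCoh.LTensorCx E) := by
  obtain ⟨eO⟩ := hO
  obtain ⟨eE⟩ := hE
  haveI : QuasiCompact f := quasiCompact_of_compactSpace f
  haveI : QuasiSeparated f := QuasiSeparated.of_quasiSeparatedSpace f
  have hperf := isPerfect_rpush_of_preservesSums f h a ad hcop
  obtain ⟨J, hJ, -, ⟨eJ₀⟩⟩ := exists_kInjective_rep (a.obj (unitDQ Y)).obj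
  haveI := hJ
  obtain ⟨θ, hθ⟩ := exists_comparison f h a ad J eJ₀.symm
  obtain ⟨cs, hcs⟩ := exists_isTriangulated_rightAdjoint f h a ad
  letI := cs
  haveI := hcs
  haveI := hcop
  haveI : ∀ K, IsIso (θ.app K) := fun K => by
    refine (DerivedCategory.isIso_iff _ _).2 fun i => isIso_of_isIso_restrict _ fun x => ?_
    obtain ⟨_, ⟨W, hW, rfl⟩, hxW, -⟩ :=
      Y.isBasis_affineOpens.exists_subset_of_mem_open (Set.mem_univ (f.base x)) isOpen_univ
    have hc := (NatTrans.isIso_app_iff_of_iso (Functor.whiskerRight θ (rho (f ⁻¹ᵁ W).ι))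
      ((shiftFunctorZero (DCoh.DQCoh Y) ℤ).app K)).1 (cw_of_isAffineOpen f a J θ W h ad hperf hθ hW K 0)
    haveI : IsIso ((rho (f ⁻¹ᵁ W).ι).map (θ.app K)) := hc
    exact ⟨f ⁻¹ᵁ W, hxW, (NatIso.isIso_map_iff
      (mapDCHomologyIso (Scheme.Modules.restrictFunctor (f ⁻¹ᵁ W).ι) i) _).1
        (Functor.map_isIso (DerivedCategory.homologyFunctor _ i) ((rho (f ⁻¹ᵁ W).ι).map (θ.app K)))⟩
  haveI := NatIso.isIso_of_isIso_app θ
  haveI := hasLTensorCx J
  obtain ⟨e₁⟩ := nonempty_projH_iso f J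
  let eO' : unitDQ Y ≅ O :=
    (DCoh.IsQCohD (X := Y)).ι.preimageIso (strOIso ≪≫ eO.symm)
  obtain ⟨e₂⟩ := nonempty_LTensorCx_congr_D (P := J) (E := E)
    (eJ₀.symm ≪≫ (a ⋙ (DCoh.IsQCohD (X := X)).ι).mapIso eO' ≪≫ eE.symm)
  exact ⟨(asIso θ).symm ≪≫ Functor.isoWhiskerLeft _ (e₁ ≪≫ Functor.isoWhiskerLeft _ e₂)⟩

end Groth.Agent.AdjTwist
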